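import Mathlib

/-! The gcd of `∏_{a ≤ g} (ℓ^{2a} - 1)` over large primes `ℓ` (S17445). -/

namespace Groth.Agent.Helper7.GcdPow

open Finset

/-- the product -/
def P (g l : ℕ) : ℕ := ∏ a ∈ Icc 1 g, (l ^ (2 * a) - 1)

theorem factor_ne_zero {l a : ℕ} (hl : 2 ≤ l) (ha : 1 ≤ a) : l ^ (2 * a) - 1 ≠ 0 := by
  have : 1 < l ^ (2 * a) := Nat.one_lt_pow (by omega) (by omega)
  omega

theorem P_ne_zero {g l : ℕ} (hl : 2 ≤ l) : P g l ≠ 0 := by
  unfold P
  rw [Finset.prod_ne_zero_iff]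
  intro a ha
  exact factor_ne_zero hl (Finset.mem_Icc.mp ha).1

theorem padicValNat_prod {ι : Type*} (p : ℕ) [Fact p.Prime] (s : Finset ι) (f : ι → ℕ)
    (hf : ∀ i ∈ s, f i ≠ 0) :
    padicValNat p (∏ i ∈ s, f i) = ∑ i ∈ s, padicValNat p (f i) := by
  classical
  induction s using Finset.induction_on with
  | empty => simp
  | insert a s ha ih =>
    rw [Finset.prod_insert ha, Finset.sum_insert ha, padicValNat.mul, ih]
    · exact fun i hi => hf i (Finset.mem_insert_of_mem hi)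
    · exact hf a (Finset.mem_insert_self _ _)
    · rw [Finset.prod_ne_zero_iff]
      exact fun i hi => hf i (Finset.mem_insert_of_mem hi)

theorem padicValNat_factorial_eq_sum (p : ℕ) [Fact p.Prime] (n : ℕ) :
    padicValNat p n.factorial = ∑ i ∈ Icc 1 n, padicValNat p i := by
  induction n with
  | zero => simp
  | succ n ih =>
    rw [Nat.factorial_succ, padicValNat.mul (by omega) (Nat.factorial_ne_zero n), ih,
      Finset.sum_Icc_succ_top (by omega), add_comm]

theorem padicValNat_P (p : ℕ) [Fact p.Prime] {g l : ℕ} (hl : 2 ≤ l) :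
    padicValNat p (P g l) = ∑ a ∈ Icc 1 g, padicValNat p (l ^ (2 * a) - 1) := by
  unfold P
  apply padicValNat_prod
  intro a ha
  exact factor_ne_zero hl (Finset.mem_Icc.mp ha).1

/-! ### the prime 2 -/

theorem val_two_factor {l a : ℕ} (hl : 2 ≤ l) (hodd : ¬ 2 ∣ l) (ha : 1 ≤ a) :
    padicValNat 2 (l ^ (2 * a) - 1) =
      padicValNat 2 (l + 1) + padicValNat 2 (l - 1) + padicValNat 2 a := by
  have h := padicValNat.pow_two_sub_one (x := l) (n := 2 * a) (by omega) hodd (by omega)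
    (even_two_mul a)
  rw [padicValNat.mul (by omega) (by omega), padicValNat_self] at h
  omega

theorem val_two_P {g l : ℕ} (hl : 2 ≤ l) (hodd : ¬ 2 ∣ l) :
    padicValNat 2 (P g l) =
      g * (padicValNat 2 (l + 1) + padicValNat 2 (l - 1)) + padicValNat 2 g.factorial := by
  rw [padicValNat_P 2 hl, padicValNat_factorial_eq_sum]
  have : ∀ a ∈ Icc 1 g, padicValNat 2 (l ^ (2 * a) - 1) =
      (padicValNat 2 (l + 1) + padicValNat 2 (l - 1)) + padicValNat 2 a :=
    fun a ha => val_two_factor hl hodd (Finset.mem_Icc.mp ha).1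
  rw [Finset.sum_congr rfl this, Finset.sum_add_distrib, Finset.sum_const, Nat.card_Icc]
  simp

theorem three_le_val_two {l : ℕ} (hl : 2 ≤ l) (hodd : ¬ 2 ∣ l) :
    3 ≤ padicValNat 2 (l + 1) + padicValNat 2 (l - 1) := by
  have h8 : 8 ∣ l ^ 2 - 1 := Nat.eight_dvd_sq_sub_one_of_odd (Nat.odd_iff.mpr (by omega))
  have hfac : l ^ 2 - 1 = (l + 1) * (l - 1) := by
    have := Nat.pow_two_sub_pow_two l 1
    simpa using this
  rw [hfac] at h8
  have hne : (l + 1) * (l - 1) ≠ 0 := Nat.mul_ne_zero (by omega) (by omega)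
  have := (padicValNat_dvd_iff_le (p := 2) (n := 3) hne).mp (by simpa using h8)
  rwa [padicValNat.mul (by omega) (by omega)] at this

theorem val_two_of_mod_eight {l : ℕ} (h : l % 8 = 3) :
    padicValNat 2 (l + 1) + padicValNat 2 (l - 1) = 3 := by
  obtain ⟨q, rfl⟩ : ∃ q, l = 8 * q + 3 := ⟨l / 8, by omega⟩
  have e1 : 8 * q + 3 + 1 = 2 ^ 2 * (2 * q + 1) := by ring
  have e2 : 8 * q + 3 - 1 = 2 ^ 1 * (4 * q + 1) := by omega
  rw [e1, e2, padicValNat.mul (by norm_num) (by omega), padicValNat.mul (by norm_num) (by omega),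
    padicValNat.prime_pow, padicValNat.prime_pow,
    padicValNat.eq_zero_of_not_dvd (by omega), padicValNat.eq_zero_of_not_dvd (by omega)]

/-! ### reindexing -/

theorem sum_mul_le (F : ℕ → ℕ) {h : ℕ} (hh : 1 ≤ h) (g : ℕ) :
    ∑ i ∈ Icc 1 (g / h), F (h * i) ≤ ∑ a ∈ Icc 1 g, F a := by
  have hinj : Set.InjOn (fun i => h * i) (Icc 1 (g / h) : Finset ℕ) := by
    intro i _ j _ hij
    exact Nat.eq_of_mul_eq_mul_left (by omega) hij
  rw [← Finset.sum_image (f := F) hinj]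
  apply Finset.sum_le_sum_of_subset
  intro a ha
  obtain ⟨i, hi, rfl⟩ := Finset.mem_image.mp ha
  rw [Finset.mem_Icc] at hi ⊢
  refine ⟨Nat.mul_pos (by omega) (by omega), ?_⟩
  calc h * i ≤ h * (g / h) := Nat.mul_le_mul_left _ hi.2
    _ ≤ g := Nat.mul_div_le g h

theorem sum_mul_eq (F : ℕ → ℕ) {h : ℕ} (hh : 1 ≤ h) (g : ℕ)
    (hF : ∀ a, 1 ≤ a → ¬ h ∣ a → F a = 0) :
    ∑ i ∈ Icc 1 (g / h), F (h * i) = ∑ a ∈ Icc 1 g, F a := by
  have hinj : Set.InjOn (fun i => h * i) (Icc 1 (g / h) : Finset ℕ) := by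
    intro i _ j _ hij
    exact Nat.eq_of_mul_eq_mul_left (by omega) hij
  rw [← Finset.sum_image (f := F) hinj]
  apply Finset.sum_subset
  · intro a ha
    obtain ⟨i, hi, rfl⟩ := Finset.mem_image.mp ha
    rw [Finset.mem_Icc] at hi ⊢
    refine ⟨Nat.mul_pos (by omega) (by omega), ?_⟩
    calc h * i ≤ h * (g / h) := Nat.mul_le_mul_left _ hi.2
      _ ≤ g := Nat.mul_div_le g h
  · intro a ha hna
    rw [Finset.mem_Icc] at ha
    apply hF a ha.1
    rintro ⟨i, rfl⟩
    apply hna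
    rw [Finset.mem_image]
    refine ⟨i, ?_, rfl⟩
    rw [Finset.mem_Icc]
    constructor
    · rcases Nat.eq_zero_or_pos i with h0 | h0
      · subst h0; omega
      · exact h0
    · rw [Nat.le_div_iff_mul_le (by omega), mul_comm]
      exact ha.2

/-! ### odd primes -/

section Odd

variable (p : ℕ) [hp : Fact p.Prime]

theorem fermat_dvd {l : ℕ} (hl : 2 ≤ l) (hpl : ¬ p ∣ l) : p ∣ l ^ (p - 1) - 1 := by
  have hcop : Nat.Coprime l p := ((Nat.Prime.coprime_iff_not_dvd hp.out).mpr hpl).symm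
  have h := Nat.ModEq.pow_totient hcop
  rw [Nat.totient_prime hp.out] at h
  exact (Nat.modEq_iff_dvd' (Nat.one_le_pow _ _ (by omega))).mp h.symm

theorem val_odd_factor (hp2 : p ≠ 2) {l : ℕ} (hl : 2 ≤ l) (hpl : ¬ p ∣ l) {i : ℕ} (hi : 1 ≤ i) :
    padicValNat p (l ^ ((p - 1) * i) - 1) =
      padicValNat p (l ^ (p - 1) - 1) + padicValNat p i := by
  have hodd : Odd p := hp.out.odd_of_ne_two hp2
  have hp1 : 1 ≤ p - 1 := by have := hp.out.two_le; omega
  have h1 : 1 < l ^ (p - 1) := Nat.one_lt_pow (by omega) (by omega)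
  have h := padicValNat.pow_sub_pow (p := p) hodd (x := l ^ (p - 1)) (y := 1) h1
    (fermat_dvd p hl hpl) (fun hd => hpl (hp.out.dvd_of_dvd_pow hd)) (n := i) (by omega)
  rwa [one_pow, ← pow_mul] at h

theorem one_le_val (l : ℕ) (hl : 2 ≤ l) (hpl : ¬ p ∣ l) :
    1 ≤ padicValNat p (l ^ (p - 1) - 1) := by
  have hp1 : 1 ≤ p - 1 := by have := hp.out.two_le; omega
  have h1 : 1 < l ^ (p - 1) := Nat.one_lt_pow (by omega) (by omega)
  exact one_le_padicValNat_of_dvd (by omega) (fermat_dvd p hl hpl)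

/-- exponent of an odd prime -/
def E (g p : ℕ) : ℕ := (2 * g) / (p - 1) + ∑ i ∈ Icc 1 ((2 * g) / (p - 1)), padicValNat p i

theorem half (hp2 : p ≠ 2) : ∃ h, 1 ≤ h ∧ p - 1 = 2 * h := by
  have hodd : Odd p := hp.out.odd_of_ne_two hp2
  obtain ⟨k, hk⟩ := hodd
  have := hp.out.two_le
  exact ⟨k, by omega, by omega⟩

theorem E_le_val (hp2 : p ≠ 2) (g : ℕ) {l : ℕ} (hl : 2 ≤ l) (hpl : ¬ p ∣ l) :
    E g p ≤ padicValNat p (P g l) := by
  obtain ⟨h, hh, hph⟩ := half p hp2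
  rw [padicValNat_P p hl]
  refine le_trans ?_ (sum_mul_le (fun a => padicValNat p (l ^ (2 * a) - 1)) hh g)
  unfold E
  rw [hph, Nat.mul_div_mul_left g h (by norm_num)]
  have : ∀ i ∈ Icc 1 (g / h), 1 + padicValNat p i ≤ padicValNat p (l ^ (2 * (h * i)) - 1) := by
    intro i hi
    rw [← mul_assoc, ← hph, val_odd_factor p hp2 hl hpl (Finset.mem_Icc.mp hi).1]
    exact Nat.add_le_add_right (one_le_val p l hl hpl) _
  refine le_trans ?_ (Finset.sum_le_sum this)
  rw [Finset.sum_add_distrib, Finset.sum_const, Nat.card_Icc]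
  simp

end Odd

/-! ### primitive roots modulo `p²` -/

section PrimRoot

variable (p : ℕ) [hp : Fact p.Prime]

/-- `l` is a primitive root modulo `p²` -/
def IsPrimRoot (l : ℕ) : Prop :=
  ∀ k : ℕ, ((l : ZMod (p ^ 2)) ^ k = 1) → p * (p - 1) ∣ k

theorem exists_prime_primRoot (hp2 : p ≠ 2) (B : ℕ) :
    ∃ l, B < l ∧ l.Prime ∧ IsPrimRoot p l := by
  have : NeZero (p ^ 2) := ⟨pow_ne_zero _ hp.out.ne_zero⟩
  have : IsCyclic (ZMod (p ^ 2))ˣ := ZMod.isCyclic_units_of_prime_pow p hp.out hp2 2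
  obtain ⟨u, hu⟩ := IsCyclic.exists_generator (α := (ZMod (p ^ 2))ˣ)
  have hord : orderOf u = p * (p - 1) := by
    rw [orderOf_eq_card_of_forall_mem_zpowers hu, Nat.card_eq_fintype_card,
      ZMod.card_units_eq_totient, Nat.totient_prime_pow hp.out (by norm_num)]
    simp
  obtain ⟨l, hBl, hlp, hl⟩ := Nat.forall_exists_prime_gt_and_eq_mod (q := p ^ 2)
    (a := (u : ZMod (p ^ 2))) u.isUnit B
  refine ⟨l, hBl, hlp, ?_⟩
  intro k hk
  rw [hl] at hk
  have hk' : u ^ k = 1 := by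
    apply Units.ext
    rw [Units.val_pow_eq_pow_val, hk, Units.val_one]
  rw [← hord]
  exact orderOf_dvd_of_pow_eq_one hk'

variable {p}

theorem IsPrimRoot.not_sq_dvd {l : ℕ} (h : IsPrimRoot p l) (hl : 2 ≤ l) :
    ¬ p ^ 2 ∣ l ^ (p - 1) - 1 := by
  intro hd
  have h1 : 1 ≤ l ^ (p - 1) := Nat.one_le_pow _ _ (by omega)
  have hz : ((l ^ (p - 1) - 1 : ℕ) : ZMod (p ^ 2)) = 0 := (ZMod.natCast_eq_zero_iff _ _).mpr hd
  rw [Nat.cast_sub h1, Nat.cast_pow, Nat.cast_one, sub_eq_zero] at hz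
  have := h _ hz
  have h2 := hp.out.two_le
  have hle := Nat.le_of_dvd (by omega) this
  have : 2 * (p - 1) ≤ p * (p - 1) := Nat.mul_le_mul_right _ h2
  omega

theorem IsPrimRoot.dvd_of_dvd {l : ℕ} (h : IsPrimRoot p l) (hl : 2 ≤ l) {k : ℕ}
    (hd : p ∣ l ^ k - 1) : p - 1 ∣ k := by
  have h1 : 1 ≤ l ^ k := Nat.one_le_pow _ _ (by omega)
  have hd' : ((p : ℕ) : ZMod (p ^ 2)) ∣ (l : ZMod (p ^ 2)) ^ k - 1 := by
    have := map_dvd (Nat.castRingHom (ZMod (p ^ 2))) hd
    simpa [Nat.cast_sub h1] using this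
  have h2 := dvd_sub_pow_of_dvd_sub hd' 1
  have hz : ((p : ZMod (p ^ 2))) ^ (1 + 1) = 0 := by
    rw [← Nat.cast_pow]
    exact ZMod.natCast_self _
  rw [hz, zero_dvd_iff, pow_one, one_pow, sub_eq_zero, ← pow_mul] at h2
  have h3 := h _ h2
  rw [mul_comm k p] at h3
  exact Nat.dvd_of_mul_dvd_mul_left hp.out.pos h3

end PrimRoot

section Exact

variable (p : ℕ) [hp : Fact p.Prime]

theorem val_eq_E (hp2 : p ≠ 2) (g : ℕ) {l : ℕ} (hl : 2 ≤ l) (hpl : ¬ p ∣ l)
    (hprim : IsPrimRoot p l) : padicValNat p (P g l) = E g p := by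
  obtain ⟨h, hh, hph⟩ := half p hp2
  rw [padicValNat_P p hl]
  rw [← sum_mul_eq (fun a => padicValNat p (l ^ (2 * a) - 1)) hh g]
  · unfold E
    rw [hph, Nat.mul_div_mul_left g h (by norm_num)]
    have hc : padicValNat p (l ^ (p - 1) - 1) = 1 := by
      apply le_antisymm
      · by_contra hlt
        have h2 : 2 ≤ padicValNat p (l ^ (p - 1) - 1) := by omega
        have hp1 : 1 ≤ p - 1 := by have := hp.out.two_le; omega
        have h1 : 1 < l ^ (p - 1) := Nat.one_lt_pow (by omega) (by omega)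
        exact hprim.not_sq_dvd hl ((padicValNat_dvd_iff_le (by omega)).mpr h2)
      · exact one_le_val p l hl hpl
    have : ∀ i ∈ Icc 1 (g / h), padicValNat p (l ^ (2 * (h * i)) - 1) = 1 + padicValNat p i := by
      intro i hi
      rw [← mul_assoc, ← hph, val_odd_factor p hp2 hl hpl (Finset.mem_Icc.mp hi).1, hc]
    rw [Finset.sum_congr rfl this, Finset.sum_add_distrib, Finset.sum_const, Nat.card_Icc]
    simp
  · intro a ha hna
    apply padicValNat.eq_zero_of_not_dvd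
    intro hd
    have := hprim.dvd_of_dvd hl hd
    rw [hph] at this
    exact hna (Nat.dvd_of_mul_dvd_mul_left (by norm_num) this)

end Exact

/-! ### assembling -/

theorem prod_prime_pow_dvd (s : Finset ℕ) (hs : ∀ p ∈ s, p.Prime) (e : ℕ → ℕ) (z : ℕ)
    (h : ∀ p ∈ s, p ^ e p ∣ z) : ∏ p ∈ s, p ^ e p ∣ z := by
  classical
  induction s using Finset.induction_on with
  | empty => simp
  | insert a s ha ih =>
    rw [Finset.prod_insert ha]
    apply Nat.Coprime.mul_dvd_of_dvd_of_dvd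
    · apply Nat.Coprime.prod_right
      intro q hq
      apply Nat.Coprime.pow
      rw [Nat.coprime_primes (hs a (Finset.mem_insert_self _ _))
        (hs q (Finset.mem_insert_of_mem hq))]
      rintro rfl
      exact ha hq
    · exact h a (Finset.mem_insert_self _ _)
    · exact ih (fun p hp => hs p (Finset.mem_insert_of_mem hp))
        (fun p hp => h p (Finset.mem_insert_of_mem hp))

/-- the number `N(g)` -/
def N (g : ℕ) : ℕ :=
  2 ^ (3 * g + padicValNat 2 g.factorial) *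
    ∏ p ∈ (Icc 3 (2 * g + 1)).filter Nat.Prime, p ^ E g p

theorem odd_of_prime_gt {g B l : ℕ} (hg : g ≠ 0) (hB : 2 * g + 1 ≤ B) (hl : l.Prime) (hBl : B < l) :
    ¬ 2 ∣ l := by
  intro h2
  rcases hl.eq_one_or_self_of_dvd 2 h2 with h | h <;> omega

theorem N_dvd_P {g B l : ℕ} (hB : 2 * g + 1 ≤ B) (hl : l.Prime) (hBl : B < l) : N g ∣ P g l := by
  unfold N
  apply Nat.Coprime.mul_dvd_of_dvd_of_dvd
  · apply Nat.Coprime.prod_right
    intro q hq
    rw [Finset.mem_filter, Finset.mem_Icc] at hq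
    apply Nat.Coprime.pow
    rw [Nat.coprime_primes Nat.prime_two hq.2]
    omega
  · rcases Nat.eq_zero_or_pos g with rfl | hg
    · simp [P]
    · have hodd := odd_of_prime_gt hg.ne' hB hl hBl
      rw [padicValNat_dvd_iff_le (P_ne_zero hl.two_le), val_two_P hl.two_le hodd]
      have := three_le_val_two hl.two_le hodd
      have : g * 3 ≤ g * (padicValNat 2 (l + 1) + padicValNat 2 (l - 1)) :=
        Nat.mul_le_mul_left _ this
      omega
  · apply prod_prime_pow_dvd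
    · intro q hq
      exact (Finset.mem_filter.mp hq).2
    · intro q hq
      rw [Finset.mem_filter, Finset.mem_Icc] at hq
      have : Fact q.Prime := ⟨hq.2⟩
      rw [padicValNat_dvd_iff_le (P_ne_zero hl.two_le)]
      apply E_le_val q (by omega) g hl.two_le
      intro hd
      rcases (Nat.prime_dvd_prime_iff_eq hq.2 hl).mp hd with h
      omega

theorem E_eq_zero {g q : ℕ} (hq : 2 * g + 1 < q) : E g q = 0 := by
  unfold E
  have : 2 * g / (q - 1) = 0 := Nat.div_eq_of_lt (by omega)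
  rw [this]
  simp

theorem pow_e_dvd_N (g q : ℕ) (hq : q.Prime) (hq2 : q ≠ 2) : q ^ E g q ∣ N g := by
  unfold N
  apply Dvd.dvd.mul_left
  by_cases hle : q ≤ 2 * g + 1
  · have h3 : 3 ≤ q := by
      have := hq.two_le
      omega
    exact Finset.dvd_prod_of_mem (fun p => p ^ E g p)
      (Finset.mem_filter.mpr ⟨Finset.mem_Icc.mpr ⟨h3, hle⟩, hq⟩)
  · rw [E_eq_zero (by omega)]
    simp

theorem exists_prime_val_le (g B q : ℕ) (hq : q.Prime) :
    ∃ l, B < l ∧ l.Prime ∧ ∀ k, q ^ k ∣ P g l → q ^ k ∣ N g := by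
  have : Fact q.Prime := ⟨hq⟩
  by_cases hq2 : q = 2
  · subst hq2
    obtain ⟨l, hBl, hl, hmod⟩ := Nat.forall_exists_prime_gt_and_modEq B (q := 8) (a := 3)
      (by norm_num) (by norm_num)
    refine ⟨l, hBl, hl, ?_⟩
    intro k hk
    have hmod' : l % 8 = 3 := hmod
    have hodd : ¬ 2 ∣ l := by omega
    rw [padicValNat_dvd_iff_le (P_ne_zero hl.two_le), val_two_P hl.two_le hodd,
      val_two_of_mod_eight hmod'] at hk
    unfold N
    apply Dvd.dvd.mul_right
    apply pow_dvd_pow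
    omega
  · obtain ⟨l, hBl, hl, hprim⟩ := exists_prime_primRoot q hq2 (max B q)
    refine ⟨l, lt_of_le_of_lt (le_max_left _ _) hBl, hl, ?_⟩
    intro k hk
    have hql : ¬ q ∣ l := by
      intro hd
      have := (Nat.prime_dvd_prime_iff_eq hq hl).mp hd
      have := lt_of_le_of_lt (le_max_right B q) hBl
      omega
    rw [padicValNat_dvd_iff_le (P_ne_zero hl.two_le), val_eq_E q hq2 g hl.two_le hql hprim] at hk
    exact (pow_dvd_pow q hk).trans (pow_e_dvd_N g q hq hq2)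

theorem main (g B d : ℕ) (hB : 2 * g + 1 ≤ B) :
    (∀ l : ℕ, l.Prime → B < l → d ∣ P g l) ↔ d ∣ N g := by
  constructor
  · intro h
    rw [Nat.dvd_iff_prime_pow_dvd_dvd]
    intro q k hq hqk
    obtain ⟨l, hBl, hl, hlk⟩ := exists_prime_val_le g B q hq
    exact hlk k (hqk.trans (h l hl hBl))
  · intro h l hl hBl
    exact h.trans (N_dvd_P hB hl hBl)

end Groth.Agent.Helper7.GcdPow
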