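import Mathlib

/-! Minkowski: finite subgroups of `GL_n(ℤ)` inject into `GL_n(ℤ/3)` (S19590). -/

namespace Groth.Agent.Helper7.Minkowski

open Matrix

variable {n : Type} [Fintype n] [DecidableEq n]

/-- expansion of `(1+M)^l` to first order, in any ring -/
theorem one_add_pow_expand {A : Type*} [Ring A] (M : A) (l : ℕ) :
    ∃ P : A, (1 + M) ^ l = 1 + (l : ℤ) • M + M * M * P := by
  induction l with
  | zero => exact ⟨0, by simp⟩
  | succ l ih =>
    obtain ⟨P, hP⟩ := ih
    refine ⟨P + (l : ℤ) • 1 + P * M, ?_⟩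
    rw [pow_succ, hP]
    push_cast
    simp only [mul_add, add_mul, mul_one, one_mul, smul_mul_assoc, mul_smul_comm, add_smul,
      one_smul, mul_assoc]
    abel

/-- divisibility step -/
theorem step (M N : Matrix n n ℤ) (l k : ℕ) (hl : l.Prime) (hk : 1 ≤ k)
    (hM : M = (3 ^ k : ℤ) • N) (hpow : (1 + M) ^ l = 1) :
    ∀ i j, (3 : ℤ) ∣ N i j := by
  by_cases hl3 : l = 3
  · subst hl3
    have h1 : (1 + M) ^ 3 = 1 + (3 : ℤ) • M + (3 : ℤ) • (M * M) + M * M * M := by
      noncomm_ring
    rw [h1] at hpow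
    have h2 : (3 : ℤ) • M + (3 : ℤ) • (M * M) + M * M * M = 0 := by
      have := hpow
      rw [add_assoc, add_assoc, add_eq_left] at this
      rw [add_assoc]
      exact this
    rw [hM] at h2
    obtain ⟨k', rfl⟩ : ∃ k', k = k' + 1 := ⟨k - 1, by omega⟩
    have h3 : ((3 : ℤ) ^ (k' + 2)) • (N + (3 : ℤ) ^ (k' + 1) • (N * N)
        + (3 : ℤ) ^ (2 * k' + 1) • (N * N * N)) = 0 := by
      rw [← h2]
      simp only [smul_mul_assoc, mul_smul_comm, smul_add, smul_smul]
      congr 1
      · congr 1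
        · congr 1; ring
        · congr 1; ring
      · congr 1; ring
    have h4 : N + (3 : ℤ) ^ (k' + 1) • (N * N) + (3 : ℤ) ^ (2 * k' + 1) • (N * N * N) = 0 := by
      have hne : ((3 : ℤ) ^ (k' + 2)) ≠ 0 := by positivity
      exact (smul_eq_zero.mp h3).resolve_left hne
    intro i j
    have h5 := congrFun (congrFun h4 i) j
    simp only [Matrix.add_apply, Matrix.smul_apply, Matrix.zero_apply, smul_eq_mul] at h5
    have : N i j = -(3 * (3 ^ k' * (N * N) i j + 3 ^ (2 * k') * (N * N * N) i j)) := by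
      have e1 : (3 : ℤ) ^ (k' + 1) = 3 * 3 ^ k' := by ring
      have e2 : (3 : ℤ) ^ (2 * k' + 1) = 3 * 3 ^ (2 * k') := by ring
      rw [e1, e2] at h5
      linarith
    rw [this]
    exact (Dvd.intro _ rfl).neg_right
  · obtain ⟨P, hP⟩ := one_add_pow_expand M l
    rw [hpow] at hP
    have h2 : (l : ℤ) • M + M * M * P = 0 := by
      have := hP.symm
      rw [add_assoc, add_eq_left] at this
      exact this
    rw [hM] at h2
    have h3 : ((3 : ℤ) ^ k) • ((l : ℤ) • N + (3 : ℤ) ^ k • (N * N * P)) = 0 := by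
      rw [← h2]
      simp only [smul_mul_assoc, mul_smul_comm, smul_add, smul_smul]
      congr 1
      congr 1
      ring
    have h4 : (l : ℤ) • N + (3 : ℤ) ^ k • (N * N * P) = 0 := by
      have hne : ((3 : ℤ) ^ k) ≠ 0 := by positivity
      exact (smul_eq_zero.mp h3).resolve_left hne
    obtain ⟨k', rfl⟩ : ∃ k', k = k' + 1 := ⟨k - 1, by omega⟩
    intro i j
    have h5 := congrFun (congrFun h4 i) j
    simp only [Matrix.add_apply, Matrix.smul_apply, Matrix.zero_apply, smul_eq_mul] at h5
    have h6 : (3 : ℤ) ∣ (l : ℤ) * N i j := by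
      have : (l : ℤ) * N i j = -(3 * (3 ^ k' * (N * N * P) i j)) := by
        have e1 : (3 : ℤ) ^ (k' + 1) = 3 * 3 ^ k' := by ring
        rw [e1] at h5
        linarith
      rw [this]
      exact (Dvd.intro _ rfl).neg_right
    have hcop : IsCoprime (3 : ℤ) (l : ℤ) := by
      have : Nat.Coprime 3 l := by
        rw [Nat.coprime_primes Nat.prime_three hl]
        exact fun h => hl3 h.symm
      exact_mod_cast Nat.isCoprime_iff_coprime.mpr this
    exact hcop.dvd_of_dvd_mul_left h6

/-- an integer matrix congruent to `1` mod `3` of prime order is trivial -/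
theorem eq_zero_of_pow (M : Matrix n n ℤ) (l : ℕ) (hl : l.Prime)
    (h3 : ∀ i j, (3 : ℤ) ∣ M i j) (hpow : (1 + M) ^ l = 1) : M = 0 := by
  have key : ∀ k : ℕ, ∃ N : Matrix n n ℤ, M = (3 ^ (k + 1) : ℤ) • N := by
    intro k
    induction k with
    | zero =>
      refine ⟨fun i j => M i j / 3, ?_⟩
      ext i j
      simp only [zero_add, pow_one, Matrix.smul_apply, smul_eq_mul]
      exact (Int.mul_ediv_cancel' (h3 i j)).symm
    | succ k ih =>
      obtain ⟨N, hN⟩ := ih
      have hdiv := step M N l (k + 1) hl (by omega) hN hpow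
      refine ⟨fun i j => N i j / 3, ?_⟩
      ext i j
      have hij := congrFun (congrFun hN i) j
      simp only [Matrix.smul_apply, smul_eq_mul] at hij ⊢
      obtain ⟨c, hc⟩ := hdiv i j
      rw [hij, hc, Int.mul_ediv_cancel_left c (by norm_num : (3 : ℤ) ≠ 0)]
      ring
  ext i j
  simp only [Matrix.zero_apply]
  by_contra hne
  obtain ⟨N, hN⟩ := key (M i j).natAbs
  have hdvd : (3 : ℤ) ^ ((M i j).natAbs + 1) ∣ M i j := by
    have hij := congrFun (congrFun hN i) j
    simp only [Matrix.smul_apply, smul_eq_mul] at hij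
    exact Dvd.intro _ hij.symm
  have hle := Int.natAbs_le_of_dvd_ne_zero hdvd hne
  rw [Int.natAbs_pow] at hle
  have : (M i j).natAbs < 3 ^ ((M i j).natAbs + 1) :=
    lt_of_lt_of_le (Nat.lt_pow_self (by norm_num)) (Nat.pow_le_pow_right (by norm_num) (by omega))
  simp only [Int.reduceAbs] at hle
  omega

/-- a finite order element of `GL_n(ℤ)` congruent to `1` mod `3` is trivial -/
theorem eq_one_of_map_eq_one (g : GL n ℤ) (hfin : IsOfFinOrder g)
    (hg : Matrix.GeneralLinearGroup.map (Int.castRingHom (ZMod 3)) g = 1) : g = 1 := by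
  by_contra hne
  have hord : orderOf g ≠ 0 := hfin.orderOf_pos.ne'
  have hord1 : orderOf g ≠ 1 := by rwa [Ne, orderOf_eq_one_iff]
  have hl : (orderOf g).minFac.Prime := Nat.minFac_prime hord1
  have hg'ord : orderOf (g ^ (orderOf g / (orderOf g).minFac)) = (orderOf g).minFac :=
    orderOf_pow_orderOf_div hord (Nat.minFac_dvd _)
  have hg'1 : Matrix.GeneralLinearGroup.map (Int.castRingHom (ZMod 3))
      (g ^ (orderOf g / (orderOf g).minFac)) = 1 := by rw [map_pow, hg, one_pow]
  generalize g ^ (orderOf g / (orderOf g).minFac) = g' at hg'ord hg'1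
  generalize (orderOf g).minFac = l at hg'ord hl
  have hM : ((g' : Matrix n n ℤ) - 1) = 0 := by
    apply eq_zero_of_pow _ l hl
    · intro i j
      have h := congrArg (fun x : GL n (ZMod 3) => (x : Matrix n n (ZMod 3)) i j) hg'1
      simp only [Matrix.GeneralLinearGroup.map_apply, eq_intCast, Units.val_one] at h
      have h3' := (ZMod.intCast_zmod_eq_zero_iff_dvd (((g' : Matrix n n ℤ) - 1) i j) 3)
      rw [← Nat.cast_ofNat (R := ℤ), ← h3']
      simp only [Matrix.sub_apply, Int.cast_sub, h]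
      by_cases hij : i = j
      · subst hij; simp
      · simp [Matrix.one_apply_ne hij]
    · rw [add_sub_cancel]
      have := pow_orderOf_eq_one g'
      rw [hg'ord] at this
      have h2 := congrArg (fun x : GL n ℤ => (x : Matrix n n ℤ)) this
      simpa using h2
  have hg'eq : g' = 1 := by
    apply Units.ext
    rw [sub_eq_zero] at hM
    exact hM
  rw [hg'eq, orderOf_one] at hg'ord
  exact hl.one_lt.ne' hg'ord.symm

theorem card_le (H : Subgroup (GL n ℤ)) (hH : Finite H) :
    Nat.card H ≤ Nat.card (GL n (ZMod 3)) := by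
  apply Nat.card_le_card_of_injective
    (fun x : H => Matrix.GeneralLinearGroup.map (Int.castRingHom (ZMod 3)) (x : GL n ℤ))
  intro x y hxy
  have h1 : Matrix.GeneralLinearGroup.map (Int.castRingHom (ZMod 3))
      ((x * y⁻¹ : H) : GL n ℤ) = 1 := by
    simp only [Subgroup.coe_mul, Subgroup.coe_inv, map_mul, map_inv]
    simp only at hxy
    rw [hxy, mul_inv_cancel]
  have hfin : IsOfFinOrder ((x * y⁻¹ : H) : GL n ℤ) := by
    have : IsOfFinOrder (x * y⁻¹ : H) := isOfFinOrder_of_finite _
    exact (Submonoid.isOfFinOrder_coe (H := H.toSubmonoid) (x := x * y⁻¹)).mpr this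
  have h2 := eq_one_of_map_eq_one _ hfin h1
  have h3 : x * y⁻¹ = 1 := Subtype.ext h2
  exact mul_inv_eq_one.mp h3

end Groth.Agent.Helper7.Minkowski
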